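import Cfsg.Agent.H160.PD.Api

/-!
# S4246: criteria for the rows (helper160)

* `Good S r` : `r` is an odd prime, the `r`-part of `|S|` is larger than the `r`-part of `|Out S|`;
* `NoOdd S r s` : no subgroup of odd order of `S` has order divisible by `r` and `s`;
* `Inc S r s` : no automorphism of odd prime order fixes elements of order `r` and of order `s`;
* `row_three` : three good primes, pairwise `NoOdd` and `Inc`;
* `row_four` : four good primes in two pairs;
* `row_two` (`Two`) : the criterion for the groups of Lie type in characteristic `p` with two good primes;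
* `row_iso` : one good prime and the prime `2` (sporadic groups, characteristic two).
-/

set_option autoImplicit false
set_option linter.unusedSectionVars false

namespace Cfsg.Agent.H160.PD

open Subgroup

variable {S : Type*} [Group S]

/-- `r` is an odd prime, the `r`-part of `|S|` is larger than the `r`-part of `|Out S|` -/
structure Good (S : Type*) [Group S] (r : ℕ) : Prop where
  prime : r.Prime
  odd : r ≠ 2
  lt : (out S).factorization r < v r S

/-- no subgroup of odd order of `S` has order divisible by `r` and `s` -/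
def NoOdd (S : Type*) [Group S] (r s : ℕ) : Prop :=
  ∀ H : Subgroup S, Odd (Nat.card H) → r ∣ Nat.card H → s ∣ Nat.card H → False

/-- no automorphism of odd prime order fixes an element of order `r` and an element of order `s` -/
def Inc (S : Type*) [Group S] (r s : ℕ) : Prop :=
  ∀ b : MulAut S, (orderOf b).Prime → orderOf b ≠ 2 → ∀ x : S, orderOf x = r → b x = x →
    ∀ y : S, orderOf y = s → b y = y → False

theorem NoOdd.symm {r s : ℕ} (h : NoOdd S r s) : NoOdd S s r := fun H h1 h2 h3 => h H h1 h3 h2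

theorem Inc.symm {r s : ℕ} (h : Inc S r s) : Inc S s r := fun b h1 h2 x hx h3 y hy h4 => h b h1 h2 y hy h4 x hx h3

variable [Finite S]

/-- an element of order `r` in the group -/
theorem NoOdd.not_comm {r s : ℕ} (h : NoOdd S r s) (hr : r.Prime) (hr2 : r ≠ 2) (hs : s.Prime) (hs2 : s ≠ 2)
    {x y : S} (hx : orderOf x = r) (hy : orderOf y = s) (hxy : x * y = y * x) : False := by
  by_cases hrs : r = s
  · subst hrs
    refine h (zpowers x) ?_ ?_ ?_
    · rw [Nat.card_zpowers, hx]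
      exact hr.odd_of_ne_two hr2
    · rw [Nat.card_zpowers, hx]
    · rw [Nat.card_zpowers, hx]
  · have hc : (orderOf x).Coprime (orderOf y) := by
      rw [hx, hy]
      exact (Nat.coprime_primes hr hs).2 hrs
    have h1 : orderOf (x * y) = r * s := by
      rw [(show Commute x y from hxy).orderOf_mul_eq_mul_orderOf_of_coprime hc, hx, hy]
    refine h (zpowers (x * y)) ?_ ?_ ?_
    · rw [Nat.card_zpowers, h1]
      exact (hr.odd_of_ne_two hr2).mul (hs.odd_of_ne_two hs2)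
    · rw [Nat.card_zpowers, h1]
      exact dvd_mul_right _ _
    · rw [Nat.card_zpowers, h1]
      exact dvd_mul_left _ _

/-- `r` divides the order of `tr L` or of `tr K` -/
def In (L K : Subgroup (MulAut S)) (r : ℕ) : Prop := r ∣ Nat.card (tr L) ∨ r ∣ Nat.card (tr K)

namespace Cfg

variable {π : Set ℕ} {L K L' K' : Subgroup (MulAut S)}

theorem cover (hZ : center S = ⊥) (h : Cfg π L K L' K') {r : ℕ} (hg : Good S r) : In L K r ∨ In L' K' r := by
  by_cases hr : r ∈ π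
  · rcases h.mem_L_or hZ hg.prime hr hg.lt with ⟨x, hx, ho⟩ | ⟨x, hx, ho⟩
    · left; left
      rw [← ho]
      exact (Subgroup.orderOf_mk x hx) ▸ orderOf_dvd_natCard (⟨x, hx⟩ : tr L)
    · right; left
      rw [← ho]
      exact (Subgroup.orderOf_mk x hx) ▸ orderOf_dvd_natCard (⟨x, hx⟩ : tr L')
  · rcases h.mem_K_or hZ hg.prime hr hg.lt with ⟨x, hx, ho⟩ | ⟨x, hx, ho⟩
    · left; right
      rw [← ho]
      exact (Subgroup.orderOf_mk x hx) ▸ orderOf_dvd_natCard (⟨x, hx⟩ : tr K)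
    · right; right
      rw [← ho]
      exact (Subgroup.orderOf_mk x hx) ▸ orderOf_dvd_natCard (⟨x, hx⟩ : tr K')

theorem mem_pi_of_dvd (hZ : center S = ⊥) (h : Cfg π L K L' K') {r : ℕ} (hr : r.Prime)
    (hd : r ∣ Nat.card (tr L)) : r ∈ π := h.piL r hr (hd.trans (card_tr_dvd hZ L))

theorem not_mem_pi_of_dvd (hZ : center S = ⊥) (h : Cfg π L K L' K') {r : ℕ} (hr : r.Prime)
    (hd : r ∣ Nat.card (tr K)) : r ∉ π := h.piK r hr (hd.trans (card_tr_dvd hZ K))

/-- no `r` in `L` and `s` in `K` -/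
theorem exclLK (hZ : center S = ⊥) (h : Cfg π L K L' K') {r s : ℕ} (hr : r.Prime) (hr2 : r ≠ 2) (hs : s.Prime)
    (hs2 : s ≠ 2) (hN : NoOdd S r s) (h1 : r ∣ Nat.card (tr L)) (h2 : s ∣ Nat.card (tr K)) : False := by
  obtain ⟨x, hx, hxo⟩ := Cfg.exists_mem hr h1
  obtain ⟨y, hy, hyo⟩ := Cfg.exists_mem hs h2
  exact hN.not_comm hr hr2 hs hs2 hxo hyo (h.tr_comm hZ hx hy)

/-- no `r` and `s` in `L` -/
theorem exclLL (hZ : center S = ⊥) (h : Cfg π L K L' K') {r s : ℕ} (hN : NoOdd S r s)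
    (h1 : r ∣ Nat.card (tr L)) (h2 : s ∣ Nat.card (tr L)) : False := hN _ (h.odd hZ) h1 h2

/-- no `r` and `s` in `K` -/
theorem exclKK (hZ : center S = ⊥) (h : Cfg π L K L' K') {r s : ℕ} (hr : r.Prime) (hs : s.Prime)
    (hI : Inc S r s) (h1 : r ∣ Nat.card (tr K)) (h2 : s ∣ Nat.card (tr K)) : False := by
  obtain ⟨b, hb, t, ht, -, ht2, hbo⟩ := h.exists_prime
  obtain ⟨x, hx, hxo⟩ := Cfg.exists_mem hr h1
  obtain ⟨y, hy, hyo⟩ := Cfg.exists_mem hs h2
  exact hI b (hbo ▸ ht) (by rw [hbo]; exact ht2) x hxo (h.fix hZ hb hx) y hyo (h.fix hZ hb hy)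

/-- two incompatible primes are not in the same product -/
theorem excl (hZ : center S = ⊥) (h : Cfg π L K L' K') {r s : ℕ} (hr : r.Prime) (hr2 : r ≠ 2) (hs : s.Prime)
    (hs2 : s ≠ 2) (hN : NoOdd S r s) (hI : Inc S r s) (h1 : In L K r) (h2 : In L K s) : False := by
  rcases h1 with h1 | h1 <;> rcases h2 with h2 | h2
  · exact h.exclLL hZ hN h1 h2
  · exact h.exclLK hZ hr hr2 hs hs2 hN h1 h2
  · exact h.exclLK hZ hs hs2 hr hr2 hN.symm h2 h1
  · exact h.exclKK hZ hr hs hI h1 h2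

end Cfg

/-! ### three primes -/

/-- **The criterion with three primes.** -/
theorem row_three (hZ : center S = ⊥) {r s t : ℕ} (hr : Good S r) (hs : Good S s) (ht : Good S t)
    (h1 : NoOdd S r s) (h2 : NoOdd S r t) (h3 : NoOdd S s t) (h4 : Inc S r s) (h5 : Inc S r t) (h6 : Inc S s t) :
    Row S := by
  intro π L K L' K' h
  have e1 := h.excl hZ hr.prime hr.odd hs.prime hs.odd h1 h4
  have e2 := h.excl hZ hr.prime hr.odd ht.prime ht.odd h2 h5
  have e3 := h.excl hZ hs.prime hs.odd ht.prime ht.odd h3 h6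
  have e4 := h.symm.excl hZ hr.prime hr.odd hs.prime hs.odd h1 h4
  have e5 := h.symm.excl hZ hr.prime hr.odd ht.prime ht.odd h2 h5
  have e6 := h.symm.excl hZ hs.prime hs.odd ht.prime ht.odd h3 h6
  have c1 := h.cover hZ hr
  have c2 := h.cover hZ hs
  have c3 := h.cover hZ ht
  tauto

/-! ### four primes in two pairs -/

/-- **The criterion with four primes** `r₀, r₁ | s₀, s₁`: the pairs `r₀, s₀`, `r₀, s₁`, `r₁, s₀` are incompatible,
`r₀, r₁` and `s₀, s₁` only satisfy `NoOdd`. -/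
theorem row_four (hZ : center S = ⊥) {r₀ r₁ s₀ s₁ : ℕ} (hr₀ : Good S r₀) (hr₁ : Good S r₁) (hs₀ : Good S s₀)
    (hs₁ : Good S s₁) (n1 : NoOdd S r₀ r₁) (n2 : NoOdd S s₀ s₁)
    (n3 : NoOdd S r₀ s₀) (n4 : NoOdd S r₀ s₁) (n5 : NoOdd S r₁ s₀)
    (i3 : Inc S r₀ s₀) (i4 : Inc S r₀ s₁) (i5 : Inc S r₁ s₀)
    (num : ∀ t, t.Prime → t ≠ 2 → t ∣ Nat.card S → t ≠ r₀ → t ≠ r₁ → t ≠ s₀ → t ≠ s₁ →
      ((out S).factorization t < v t S ∧ ∀ y : S, orderOf y = t →
        (¬ r₀ ∣ Nat.card (centralizer {y}) ∨ ¬ r₁ ∣ Nat.card (centralizer {y})) ∧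
        (¬ s₀ ∣ Nat.card (centralizer {y}) ∨ ¬ s₁ ∣ Nat.card (centralizer {y}))) ∨
      ∀ x y : S, orderOf x = r₀ → orderOf y = s₀ →
        v t (centralizer {x}) + v t (centralizer {y}) + (out S).factorization t < v t S) : Row S := by
  -- one half
  have key : ∀ (π : Set ℕ) (L K L' K' : Subgroup (MulAut S)), Cfg π L K L' K' → r₀ ∣ Nat.card (tr K) →
      r₁ ∣ Nat.card (tr K) → s₀ ∣ Nat.card (tr K') → s₁ ∣ Nat.card (tr K') → False := by
    intro π L K L' K' h hr0 hr1 hs0 hs1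
    obtain ⟨t, ht, htπ, htS⟩ := h.dvd
    have ht2 : t ≠ 2 := fun h0 => h.two (h0 ▸ htπ)
    have hne : ∀ r, r.Prime → r ∣ Nat.card (tr K) → t ≠ r := fun r hr hd h0 =>
      h.not_mem_pi_of_dvd hZ hr hd (h0 ▸ htπ)
    have hne' : ∀ r, r.Prime → r ∣ Nat.card (tr K') → t ≠ r := fun r hr hd h0 =>
      h.symm.not_mem_pi_of_dvd hZ hr hd (h0 ▸ htπ)
    rcases num t ht ht2 htS (hne _ hr₀.prime hr0) (hne _ hr₁.prime hr1) (hne' _ hs₀.prime hs0)
      (hne' _ hs₁.prime hs1) with ⟨h1, h2⟩ | h1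
    · rcases h.mem_L_or hZ ht htπ h1 with ⟨x, hx, ho⟩ | ⟨x, hx, ho⟩
      · have h3 := card_dvd_of_le (h.trK_le_centralizer hZ hx)
        rcases (h2 x ho).1 with h4 | h4
        · exact h4 (hr0.trans h3)
        · exact h4 (hr1.trans h3)
      · have h3 := card_dvd_of_le (h.symm.trK_le_centralizer hZ hx)
        rcases (h2 x ho).2 with h4 | h4
        · exact h4 (hs0.trans h3)
        · exact h4 (hs1.trans h3)
    · obtain ⟨x, hx, hxo⟩ := Cfg.exists_mem hr₀.prime hr0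
      obtain ⟨y, hy, hyo⟩ := Cfg.exists_mem hs₀.prime hs0
      have h2 := h1 x y hxo hyo
      have h3 := v_mono (h.trL_le_centralizer hZ hx) t
      have h4 := v_mono (h.symm.trL_le_centralizer hZ hy) t
      have h5 := v_le hZ L t
      have h6 := h.numL t ht htπ
      simp only [v] at *
      omega
  have key2 : ∀ (π : Set ℕ) (L K L' K' : Subgroup (MulAut S)), Cfg π L K L' K' → In L K r₀ → False := by
    intro π L K L' K' h h0
    have a0 : In L' K' s₀ := (h.cover hZ hs₀).resolve_left fun h1 =>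
      h.excl hZ hr₀.prime hr₀.odd hs₀.prime hs₀.odd n3 i3 h0 h1
    have a1 : In L' K' s₁ := (h.cover hZ hs₁).resolve_left fun h1 =>
      h.excl hZ hr₀.prime hr₀.odd hs₁.prime hs₁.odd n4 i4 h0 h1
    have a2 : In L K r₁ := (h.cover hZ hr₁).resolve_right fun h1 =>
      h.symm.excl hZ hr₁.prime hr₁.odd hs₀.prime hs₀.odd n5 i5 h1 a0
    have pair : ∀ (L K L' K' : Subgroup (MulAut S)) (r s : ℕ), Cfg π L K L' K' → Good S r → Good S s →
        NoOdd S r s → In L K r → In L K s → r ∣ Nat.card (tr K) ∧ s ∣ Nat.card (tr K) := by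
      intro L K L' K' r s h hr hs hN h1 h2
      rcases h1 with h1 | h1 <;> rcases h2 with h2 | h2
      · exact absurd (h.exclLL hZ hN h1 h2) not_false
      · exact absurd (h.exclLK hZ hr.prime hr.odd hs.prime hs.odd hN h1 h2) not_false
      · exact absurd (h.exclLK hZ hs.prime hs.odd hr.prime hr.odd hN.symm h2 h1) not_false
      · exact ⟨h1, h2⟩
    obtain ⟨b0, b1⟩ := pair L K L' K' r₀ r₁ h hr₀ hr₁ n1 h0 a2
    obtain ⟨b2, b3⟩ := pair L' K' L K s₀ s₁ h.symm hs₀ hs₁ n2 a0 a1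
    exact key π L K L' K' h b0 b1 b2 b3
  intro π L K L' K' h
  rcases h.cover hZ hr₀ with h0 | h0
  · exact key2 _ _ _ _ _ h h0
  · exact key2 _ _ _ _ _ h.symm h0

/-! ### one prime, and the prime `2` -/

/-- **The criterion with one prime `r`** (and the prime `2 ∉ π`): the `2`-part of `C_S(x)`, `x` of order `r`, and of
`C_S(b)`, `b` of odd prime order fixing some `x`, is at most `2 ^ c`, and no automorphism of odd prime order fixes a
subgroup of small `2`-index. -/
theorem row_iso (hZ : center S = ⊥) {r c : ℕ} (hr : Good S r)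
    (h1 : ∀ x : S, orderOf x = r → v 2 (centralizer {x}) ≤ c)
    (h2 : ∀ b : MulAut S, (orderOf b).Prime → orderOf b ≠ 2 → ∀ x : S, orderOf x = r → b x = x → v 2 (Fx b) ≤ c)
    (h3 : ∀ b : MulAut S, (orderOf b).Prime → orderOf b ≠ 2 → v 2 (Fx b) + c + (out S).factorization 2 < v 2 S) :
    Row S := by
  have key : ∀ (π : Set ℕ) (L K L' K' : Subgroup (MulAut S)), Cfg π L K L' K' → In L K r → False := by
    intro π L K L' K' h hI
    have h4 : v 2 (tr K) ≤ c := by
      rcases hI with h0 | h0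
      · obtain ⟨x, hx, hxo⟩ := Cfg.exists_mem hr.prime h0
        exact (v_mono (h.trK_le_centralizer hZ hx) 2).trans (h1 x hxo)
      · obtain ⟨x, hx, hxo⟩ := Cfg.exists_mem hr.prime h0
        obtain ⟨b, hb, t, ht, -, ht2, hbo⟩ := h.exists_prime
        exact (v_mono (h.trK_le hZ hb) 2).trans (h2 b (hbo ▸ ht) (by rw [hbo]; exact ht2) x hxo (h.fix hZ hb hx))
    obtain ⟨b, hb, t, ht, -, ht2, hbo⟩ := h.symm.exists_prime
    have h5 := h3 b (hbo ▸ ht) (by rw [hbo]; exact ht2)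
    have h6 := v_mono (h.symm.trK_le hZ hb) 2
    have h7 := v_le hZ K 2
    have h8 := h.numK 2 Nat.prime_two h.two
    simp only [v] at *
    omega
  intro π L K L' K' h
  rcases h.cover hZ hr with h0 | h0
  · exact key _ _ _ _ _ h h0
  · exact key _ _ _ _ _ h.symm h0

/-! ### two primes and the characteristic -/

/-- **The hypotheses of the criterion with two primes** `r₀, r₁` for a group in characteristic `p`. -/
structure Two (S : Type*) [Group S] (p r₀ r₁ c₀ c₁ cE m₀ m₁ : ℕ) : Prop where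
  prime : p.Prime
  good₀ : Good S r₀
  good₁ : Good S r₁
  /-- the `p`-parts of the centralisers of the elements of order `r_i` -/
  cent₀ : ∀ x : S, orderOf x = r₀ → v p (centralizer {x}) ≤ c₀
  cent₁ : ∀ x : S, orderOf x = r₁ → v p (centralizer {x}) ≤ c₁
  noOdd : NoOdd S r₀ r₁
  inc : Inc S r₀ r₁
  /-- the automorphisms fixing elements of order `r_i` -/
  syl₀ : ∀ b : MulAut S, (orderOf b).Prime → orderOf b ≠ 2 → orderOf b ≠ p → ∀ x : S, orderOf x = r₀ → b x = x →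
    v p (Fx b) + max c₁ cE + (out S).factorization p < v p S
  syl₁ : ∀ b : MulAut S, (orderOf b).Prime → orderOf b ≠ 2 → orderOf b ≠ p → ∀ x : S, orderOf x = r₁ → b x = x →
    v p (Fx b) + max c₀ cE + (out S).factorization p < v p S
  cc : c₀ + c₁ + (out S).factorization p < v p S
  /-- the other primes -/
  num : ∀ t, t.Prime → t ≠ 2 → t ≠ p → t ∣ Nat.card S → t ≠ r₀ → t ≠ r₁ →
    ((out S).factorization t < v t S ∧ ∀ y : S, orderOf y = t → v p (centralizer {y}) ≤ cE) ∨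
    ∀ x y : S, orderOf x = r₀ → orderOf y = r₁ →
      v t (centralizer {x}) + v t (centralizer {y}) + (out S).factorization t < v t S
  /-- subgroups of odd order containing elements of order `r_i` -/
  odd₀ : p ≠ 2 → ∀ H : Subgroup S, Odd (Nat.card H) → r₀ ∣ Nat.card H → v p H ≤ m₀
  odd₁ : p ≠ 2 → ∀ H : Subgroup S, Odd (Nat.card H) → r₁ ∣ Nat.card H → v p H ≤ m₁
  n₀ : p ≠ 2 → m₀ + c₁ + (out S).factorization p < v p S
  n₁ : p ≠ 2 → m₁ + c₀ + (out S).factorization p < v p S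
  n₀₁ : p ≠ 2 → m₀ + m₁ + (out S).factorization p < v p S

theorem Two.symm {p r₀ r₁ c₀ c₁ cE m₀ m₁ : ℕ} (h : Two S p r₀ r₁ c₀ c₁ cE m₀ m₁) :
    Two S p r₁ r₀ c₁ c₀ cE m₁ m₀ where
  prime := h.prime
  good₀ := h.good₁
  good₁ := h.good₀
  cent₀ := h.cent₁
  cent₁ := h.cent₀
  noOdd := h.noOdd.symm
  inc := h.inc.symm
  syl₀ := h.syl₁
  syl₁ := h.syl₀
  cc := by have := h.cc; omega
  num := fun t h1 h2 h3 h4 h5 h6 => by
    rcases h.num t h1 h2 h3 h4 h6 h5 with h7 | h7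
    · exact Or.inl h7
    · exact Or.inr fun x y hx hy => by have := h7 y x hy hx; omega
  odd₀ := h.odd₁
  odd₁ := h.odd₀
  n₀ := h.n₁
  n₁ := h.n₀
  n₀₁ := fun hp => by have := h.n₀₁ hp; omega

namespace Two

variable {p r₀ r₁ c₀ c₁ cE m₀ m₁ : ℕ} {π : Set ℕ} {L K L' K' : Subgroup (MulAut S)}

/-- `p ∉ π`, `r₀` in `L` -/
theorem caseOne (hZ : center S = ⊥) (H : Two S p r₀ r₁ c₀ c₁ cE m₀ m₁) (h : Cfg π L K L' K') (hp : p ∉ π)
    (h0 : r₀ ∣ Nat.card (tr L)) : False := by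
  obtain ⟨x, hx, hxo⟩ := Cfg.exists_mem H.good₀.prime h0
  have h1 := (v_mono (h.trK_le_centralizer hZ hx) p).trans (H.cent₀ x hxo)
  have h2 := v_le hZ K p
  have h3 := h.numK p H.prime hp
  rcases h.cover hZ H.good₁ with (h4 | h4) | (h4 | h4)
  · exact h.exclLL hZ H.noOdd h0 h4
  · exact h.exclLK hZ H.good₀.prime H.good₀.odd H.good₁.prime H.good₁.odd H.noOdd h0 h4
  · obtain ⟨y, hy, hyo⟩ := Cfg.exists_mem H.good₁.prime h4
    have h5 := (v_mono (h.symm.trK_le_centralizer hZ hy) p).trans (H.cent₁ y hyo)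
    have h6 := H.cc
    simp only [v] at *
    omega
  · obtain ⟨y, hy, hyo⟩ := Cfg.exists_mem H.good₁.prime h4
    obtain ⟨b, hb, t, ht, htπ, ht2, hbo⟩ := h.symm.exists_prime
    have h5 := v_mono (h.symm.trK_le hZ hb) p
    have h6 := H.syl₁ b (hbo ▸ ht) (by rw [hbo]; exact ht2) (by rw [hbo]; rintro rfl; exact hp htπ) y hyo
      (h.symm.fix hZ hb hy)
    have h7 := le_max_left c₀ cE
    simp only [v] at *
    omega

/-- `p ∉ π`, `r₀` in `K`, `r₁` in `K'` -/
theorem caseThree (hZ : center S = ⊥) (H : Two S p r₀ r₁ c₀ c₁ cE m₀ m₁) (h : Cfg π L K L' K') (hp : p ∉ π)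
    (h0 : r₀ ∣ Nat.card (tr K)) (h1 : r₁ ∣ Nat.card (tr K')) : False := by
  obtain ⟨x, hx, hxo⟩ := Cfg.exists_mem H.good₀.prime h0
  obtain ⟨y, hy, hyo⟩ := Cfg.exists_mem H.good₁.prime h1
  obtain ⟨t, ht, htπ, htS⟩ := h.dvd
  have ht2 : t ≠ 2 := fun h0 => h.two (h0 ▸ htπ)
  have htp : t ≠ p := fun h0 => hp (h0 ▸ htπ)
  have htr : t ≠ r₀ := fun h2 => h.not_mem_pi_of_dvd hZ H.good₀.prime h0 (h2 ▸ htπ)
  have htr' : t ≠ r₁ := fun h2 => h.symm.not_mem_pi_of_dvd hZ H.good₁.prime h1 (h2 ▸ htπ)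
  rcases H.num t ht ht2 htp htS htr htr' with ⟨h2, h3⟩ | h2
  · rcases h.mem_L_or hZ ht htπ h2 with ⟨z, hz, hzo⟩ | ⟨z, hz, hzo⟩
    · have h4 := (v_mono (h.trK_le_centralizer hZ hz) p).trans (h3 z hzo)
      have h5 := v_le hZ K p
      have h6 := h.numK p H.prime hp
      obtain ⟨b, hb, u, hu, huπ, hu2, hbo⟩ := h.symm.exists_prime
      have h7 := v_mono (h.symm.trK_le hZ hb) p
      have h8 := H.syl₁ b (hbo ▸ hu) (by rw [hbo]; exact hu2) (by rw [hbo]; rintro rfl; exact hp huπ) y hyo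
        (h.symm.fix hZ hb hy)
      have h9 := le_max_right c₀ cE
      simp only [v] at *
      omega
    · have h4 := (v_mono (h.symm.trK_le_centralizer hZ hz) p).trans (h3 z hzo)
      have h5 := v_le hZ K' p
      have h6 := h.numK' p H.prime hp
      obtain ⟨b, hb, u, hu, huπ, hu2, hbo⟩ := h.exists_prime
      have h7 := v_mono (h.trK_le hZ hb) p
      have h8 := H.syl₀ b (hbo ▸ hu) (by rw [hbo]; exact hu2) (by rw [hbo]; rintro rfl; exact hp huπ) x hxo
        (h.fix hZ hb hx)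
      have h9 := le_max_right c₁ cE
      simp only [v] at *
      omega
  · have h3 := h2 x y hxo hyo
    have h4 := v_mono (h.trL_le_centralizer hZ hx) t
    have h5 := v_mono (h.symm.trL_le_centralizer hZ hy) t
    have h6 := v_le hZ L t
    have h7 := h.numL t ht htπ
    simp only [v] at *
    omega

/-- `p ∈ π`, `r₀` in `K` -/
theorem caseFour (hZ : center S = ⊥) (H : Two S p r₀ r₁ c₀ c₁ cE m₀ m₁) (h : Cfg π L K L' K') (hp : p ∈ π)
    (h0 : r₀ ∣ Nat.card (tr K)) : False := by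
  have hp2 : p ≠ 2 := fun h1 => h.two (h1 ▸ hp)
  obtain ⟨x, hx, hxo⟩ := Cfg.exists_mem H.good₀.prime h0
  have h1 := (v_mono (h.trL_le_centralizer hZ hx) p).trans (H.cent₀ x hxo)
  have h2 := v_le hZ L p
  have h3 := h.numL p H.prime hp
  rcases h.cover hZ H.good₁ with (h4 | h4) | (h4 | h4)
  · exact h.exclLK hZ H.good₁.prime H.good₁.odd H.good₀.prime H.good₀.odd H.noOdd.symm h4 h0
  · exact h.exclKK hZ H.good₀.prime H.good₁.prime H.inc h0 h4
  · have h5 := H.odd₁ hp2 (tr L') (h.symm.odd hZ) h4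
    have h6 := H.n₁ hp2
    simp only [v] at *
    omega
  · obtain ⟨y, hy, hyo⟩ := Cfg.exists_mem H.good₁.prime h4
    have h5 := (v_mono (h.symm.trL_le_centralizer hZ hy) p).trans (H.cent₁ y hyo)
    have h6 := H.cc
    simp only [v] at *
    omega

/-- `p ∈ π`, `r₀` in `L`, `r₁` in `L'` -/
theorem caseSix (hZ : center S = ⊥) (H : Two S p r₀ r₁ c₀ c₁ cE m₀ m₁) (h : Cfg π L K L' K') (hp : p ∈ π)
    (h0 : r₀ ∣ Nat.card (tr L)) (h1 : r₁ ∣ Nat.card (tr L')) : False := by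
  have hp2 : p ≠ 2 := fun h1 => h.two (h1 ▸ hp)
  have h2 := v_le hZ L p
  have h3 := h.numL p H.prime hp
  have h4 := H.odd₀ hp2 (tr L) (h.odd hZ) h0
  have h5 := H.odd₁ hp2 (tr L') (h.symm.odd hZ) h1
  have h6 := H.n₀₁ hp2
  simp only [v] at *
  omega

/-- **The criterion with two primes.** -/
theorem row (hZ : center S = ⊥) (H : Two S p r₀ r₁ c₀ c₁ cE m₀ m₁) : Row S := by
  have key : ∀ (π : Set ℕ) (L K L' K' : Subgroup (MulAut S)), Cfg π L K L' K' → In L K r₀ → False := by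
    intro π L K L' K' h hI
    have hK1 : ¬ (r₀ ∣ Nat.card (tr K) ∧ r₁ ∣ Nat.card (tr K)) := fun h0 =>
      h.exclKK hZ H.good₀.prime H.good₁.prime H.inc h0.1 h0.2
    have hK2 : ¬ (r₁ ∣ Nat.card (tr L) ∧ r₀ ∣ Nat.card (tr K)) := fun h0 =>
      h.exclLK hZ H.good₁.prime H.good₁.odd H.good₀.prime H.good₀.odd H.noOdd.symm h0.1 h0.2
    have hK3 : ¬ (r₀ ∣ Nat.card (tr L) ∧ r₁ ∣ Nat.card (tr K)) := fun h0 =>
      h.exclLK hZ H.good₀.prime H.good₀.odd H.good₁.prime H.good₁.odd H.noOdd h0.1 h0.2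
    have hK4 : ¬ (r₀ ∣ Nat.card (tr L) ∧ r₁ ∣ Nat.card (tr L)) := fun h0 => h.exclLL hZ H.noOdd h0.1 h0.2
    have c1 := h.cover hZ H.good₁
    by_cases hp : p ∈ π
    · have e1 := H.caseFour hZ h hp
      have e2 := H.symm.caseFour hZ h.symm hp
      have e3 := H.caseSix hZ h hp
      unfold In at *
      tauto
    · have e1 := H.caseOne hZ h hp
      have e2 := H.symm.caseOne hZ h.symm hp
      have e3 := H.caseThree hZ h hp
      unfold In at *
      tauto
  intro π L K L' K' h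
  rcases h.cover hZ H.good₀ with h0 | h0
  · exact key _ _ _ _ _ h h0
  · exact key _ _ _ _ _ h.symm h0

end Two

end Cfsg.Agent.H160.PD
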