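import Cfsg.Agent.H160.PD.Def

/-!
# S4246: tools for the rows (helper160)
-/

set_option autoImplicit false
set_option linter.unusedSectionVars false

namespace Cfsg.Agent.H160.PD

open Subgroup

variable {S : Type*} [Group S]

/-- `r`-adic valuation of the order -/
noncomputable abbrev v (r : ℕ) (X : Type*) : ℕ := (Nat.card X).factorization r

theorem conj_injective (hZ : center S = ⊥) : Function.Injective (MulAut.conj : S →* MulAut S) := by
  rw [← MonoidHom.ker_eq_bot_iff, ← hZ]
  ext x
  rw [MonoidHom.mem_ker, mem_center_iff]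
  constructor
  · intro h y
    have h1 : MulAut.conj x y = y := by rw [h]; rfl
    rw [MulAut.conj_apply, mul_inv_eq_iff_eq_mul] at h1
    exact h1.symm
  · intro h
    ext y
    rw [MulAut.conj_apply, ← h y, mul_inv_cancel_right]
    rfl

theorem center_eq_bot [IsSimpleGroup S] (hna : ¬ IsMulCommutative S) : center S = ⊥ := by
  rcases (inferInstance : (center S).Normal).eq_bot_or_eq_top with h | h
  · exact h
  · exact absurd ⟨⟨fun a b => (mem_center_iff.1 (h ▸ mem_top a : a ∈ center S) b).symm⟩⟩ hna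

theorem conj_range_normal : (MulAut.conj : S →* MulAut S).range.Normal := by
  refine ⟨?_⟩
  rintro _ ⟨s, rfl⟩ b
  refine ⟨b s, ?_⟩
  ext x
  simp [MulAut.mul_apply, MulAut.conj_apply]

theorem mul_conj_mul_inv (b : MulAut S) (s : S) : b * MulAut.conj s * b⁻¹ = MulAut.conj (b s) := by
  ext x
  simp [MulAut.mul_apply, MulAut.conj_apply]

/-- an automorphism commuting with an inner one fixes the element -/
theorem fix_of_comm (hZ : center S = ⊥) {b : MulAut S} {s : S} (h : b * MulAut.conj s = MulAut.conj s * b) :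
    b s = s := by
  apply conj_injective hZ
  rw [← mul_conj_mul_inv, h, mul_inv_cancel_right]

theorem card_tr (hZ : center S = ⊥) (H : Subgroup (MulAut S)) :
    Nat.card (tr H) = Nat.card ↥(H ⊓ (MulAut.conj : S →* MulAut S).range) := by
  have h1 : (tr H).map (MulAut.conj : S →* MulAut S) = H ⊓ (MulAut.conj : S →* MulAut S).range := by
    rw [tr, map_comap_eq, inf_comm]
  rw [← h1]
  exact Nat.card_congr ((tr H).equivMapOfInjective _ (conj_injective hZ)).toEquiv

variable [Finite S]

theorem card_dvd (hZ : center S = ⊥) (H : Subgroup (MulAut S)) :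
    Nat.card H ∣ Nat.card (tr H) * out S := by
  have hN : (MulAut.conj : S →* MulAut S).range.Normal := conj_range_normal
  have h1 : (MulAut.conj : S →* MulAut S).range.relIndex H ∣ out S := relIndex_dvd_index_of_normal _ _
  have h2 : Nat.card ↥(H ⊓ (MulAut.conj : S →* MulAut S).range) *
      (MulAut.conj : S →* MulAut S).range.relIndex H = Nat.card H := by
    have := card_mul_index (((MulAut.conj : S →* MulAut S).range).subgroupOf H)
    rw [← this, relIndex]
    congr 1
    rw [inf_comm, ← subgroupOf_map_subtype]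
    exact (Nat.card_congr ((((MulAut.conj : S →* MulAut S).range).subgroupOf H).equivMapOfInjective _
      (subtype_injective H)).symm.toEquiv)
  rw [← h2, card_tr hZ]
  exact Nat.mul_dvd_mul_left _ h1

theorem card_tr_dvd (hZ : center S = ⊥) (H : Subgroup (MulAut S)) : Nat.card (tr H) ∣ Nat.card H := by
  rw [card_tr hZ]
  exact card_dvd_of_le inf_le_left

theorem out_ne_zero : out S ≠ 0 := by
  have : Finite (MulAut S) := inferInstance
  exact index_ne_zero_of_finite

theorem v_le (hZ : center S = ⊥) (H : Subgroup (MulAut S)) (r : ℕ) :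
    v r H ≤ v r (tr H) + (out S).factorization r := by
  have h1 := card_dvd hZ H
  have h3 : Nat.card (tr H) ≠ 0 := Nat.card_pos.ne'
  have h2 := (Nat.factorization_le_iff_dvd Nat.card_pos.ne' (mul_ne_zero h3 out_ne_zero)).2 h1 r
  rwa [Nat.factorization_mul h3 out_ne_zero, Finsupp.add_apply] at h2

theorem v_tr_le (hZ : center S = ⊥) (H : Subgroup (MulAut S)) (r : ℕ) : v r (tr H) ≤ v r H :=
  (Nat.factorization_le_iff_dvd Nat.card_pos.ne' Nat.card_pos.ne').2 (card_tr_dvd hZ H) r

theorem v_mono {G : Type*} [Group G] [Finite G] {A B : Subgroup G} (h : A ≤ B) (r : ℕ) : v r A ≤ v r B :=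
  (Nat.factorization_le_iff_dvd Nat.card_pos.ne' Nat.card_pos.ne').2 (card_dvd_of_le h) r

theorem v_eq_zero {G : Type*} [Group G] [Finite G] {A : Subgroup G} {r : ℕ} (h : ¬ r ∣ Nat.card A) : v r A = 0 :=
  Nat.factorization_eq_zero_of_not_dvd h

theorem v_pos {X : Type*} [Finite X] [Nonempty X] {r : ℕ} (hr : r.Prime) : 0 < v r X ↔ r ∣ Nat.card X :=
  (hr.dvd_iff_one_le_factorization Nat.card_pos.ne').symm

namespace Cfg

variable {π : Set ℕ} {L K L' K' : Subgroup (MulAut S)}

omit [Finite S] in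
theorem fix (hZ : center S = ⊥) (h : Cfg π L K L' K') {b : MulAut S} (hb : b ∈ L) {s : S} (hs : s ∈ tr K) :
    b s = s := fix_of_comm hZ (h.comm b hb _ hs)

omit [Finite S] in
theorem fixK (hZ : center S = ⊥) (h : Cfg π L K L' K') {b : MulAut S} (hb : b ∈ K) {s : S} (hs : s ∈ tr L) :
    b s = s := fix_of_comm hZ (h.comm _ hs b hb).symm

omit [Finite S] in
theorem tr_comm (hZ : center S = ⊥) (h : Cfg π L K L' K') {s t : S} (hs : s ∈ tr L) (ht : t ∈ tr K) :
    s * t = t * s := by
  have h1 := h.comm _ hs _ ht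
  rw [← map_mul, ← map_mul] at h1
  exact conj_injective hZ h1

/-- elements of `L` fix `tr K` -/
theorem trK_le (hZ : center S = ⊥) (h : Cfg π L K L' K') {b : MulAut S} (hb : b ∈ L) : tr K ≤ Fx b :=
  fun _ hs => h.fix hZ hb hs

/-- an element `≠ 1` of `L` of prime order -/
theorem exists_prime (h : Cfg π L K L' K') : ∃ b ∈ L, ∃ t, t.Prime ∧ t ∈ π ∧ t ≠ 2 ∧ orderOf b = t := by
  have h1 : Nat.card L ≠ 1 := fun h0 => h.ne (eq_bot_of_card_eq _ h0)
  obtain ⟨t, ht, htd⟩ := Nat.exists_prime_and_dvd h1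
  have := Fact.mk ht
  obtain ⟨⟨b, hb⟩, hbo⟩ := exists_prime_orderOf_dvd_card' t htd
  have htp := h.piL t ht htd
  exact ⟨b, hb, t, ht, htp, fun h2 => h.two (h2 ▸ htp), by rw [← hbo]; exact (Subgroup.orderOf_mk b hb).symm⟩

omit [Finite S] in
/-- a prime divisor of the order of a subgroup of `S`: an element -/
theorem exists_mem [Finite S] {H : Subgroup S} {r : ℕ} (hr : r.Prime) (hd : r ∣ Nat.card H) :
    ∃ x ∈ H, orderOf x = r := by
  have := Fact.mk hr
  obtain ⟨⟨b, hb⟩, hbo⟩ := exists_prime_orderOf_dvd_card' r hd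
  exact ⟨b, hb, by rw [← hbo]; exact (Subgroup.orderOf_mk b hb).symm⟩

/-- a prime of `π` not dividing `|Out S|` has elements in `tr L` or `tr L'` -/
theorem mem_L_or (hZ : center S = ⊥) (h : Cfg π L K L' K') {r : ℕ} (hr : r.Prime) (hrπ : r ∈ π)
    (hd : (out S).factorization r < v r S) :
    (∃ x ∈ tr L, orderOf x = r) ∨ ∃ x ∈ tr L', orderOf x = r := by
  have h1 := h.numL r hr hrπ
  have h2 := v_le hZ L r
  by_cases h3 : r ∣ Nat.card (tr L)
  · exact Or.inl (exists_mem hr h3)
  · by_cases h4 : r ∣ Nat.card (tr L')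
    · exact Or.inr (exists_mem hr h4)
    · have h5 := v_eq_zero h3
      have h6 := v_eq_zero h4
      unfold v at *
      omega

theorem mem_K_or (hZ : center S = ⊥) (h : Cfg π L K L' K') {r : ℕ} (hr : r.Prime) (hrπ : r ∉ π)
    (hd : (out S).factorization r < v r S) :
    (∃ x ∈ tr K, orderOf x = r) ∨ ∃ x ∈ tr K', orderOf x = r := by
  have h1 := h.numK r hr hrπ
  have h2 := v_le hZ K r
  by_cases h3 : r ∣ Nat.card (tr K)
  · exact Or.inl (exists_mem hr h3)
  · by_cases h4 : r ∣ Nat.card (tr K')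
    · exact Or.inr (exists_mem hr h4)
    · have h5 := v_eq_zero h3
      have h6 := v_eq_zero h4
      unfold v at *
      omega

omit [Finite S] in
/-- `tr K` centralises the elements of `tr L` -/
theorem trK_le_centralizer (hZ : center S = ⊥) (h : Cfg π L K L' K') {x : S} (hx : x ∈ tr L) :
    tr K ≤ centralizer {x} := by
  intro y hy
  rw [mem_centralizer_singleton_iff]
  exact (h.tr_comm hZ hx hy).symm

omit [Finite S] in
theorem trL_le_centralizer (hZ : center S = ⊥) (h : Cfg π L K L' K') {x : S} (hx : x ∈ tr K) :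
    tr L ≤ centralizer {x} := by
  intro y hy
  rw [mem_centralizer_singleton_iff]
  exact h.tr_comm hZ hy hx

/-- `tr L` has odd order -/
theorem odd (hZ : center S = ⊥) (h : Cfg π L K L' K') : Odd (Nat.card (tr L)) := by
  rw [← Nat.not_even_iff_odd, even_iff_two_dvd]
  intro h2
  exact h.two (h.piL 2 Nat.prime_two (h2.trans (card_tr_dvd hZ L)))

theorem mem_pi (hZ : center S = ⊥) (h : Cfg π L K L' K') {x : S} (hx : x ∈ tr L) {r : ℕ} (hr : r.Prime)
    (ho : orderOf x = r) : r ∈ π :=
  h.piL r hr ((ho ▸ (Subgroup.orderOf_mk x hx ▸ orderOf_dvd_natCard (⟨x, hx⟩ : tr L))).trans (card_tr_dvd hZ L))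

theorem not_mem_pi (hZ : center S = ⊥) (h : Cfg π L K L' K') {x : S} (hx : x ∈ tr K) {r : ℕ} (hr : r.Prime)
    (ho : orderOf x = r) : r ∉ π :=
  h.piK r hr ((ho ▸ (Subgroup.orderOf_mk x hx ▸ orderOf_dvd_natCard (⟨x, hx⟩ : tr K))).trans (card_tr_dvd hZ K))

end Cfg

end Cfsg.Agent.H160.PD
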