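import Cfsg.Agent.H5.PD.RowG2
import Cfsg.Agent.H5.PD.RowF4
import Cfsg.Agent.H742.PD.RowE6B
import Cfsg.Agent.H446.PD.E7
import Cfsg.Agent.H71.PD.E8
import Cfsg.Agent.H29.PDTwE6
import Cfsg.Agent.H699.PD.Row3D4
import Cfsg.Agent.H874.PD.TwoA
import Cfsg.Agent.H874.PD.TwoB
import Cfsg.Agent.H874.PD.Tits
import Cfsg.Agent.H874.PD.ReeB
import Cfsg.Prelude.Def_Classification2

/-!
# The rows of S4246 for the exceptional groups of Lie type: assembly (helper160)
-/

set_option autoImplicit false

namespace Cfsg.Agent.H160.PD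

open Cfsg

universe u

/-- exceptional groups of Lie type -/
theorem row_exc (K : Type u) [Group K] [Finite K] [IsSimpleGroup K] (h : IsExceptionalLieType K) : Row K := by
  rcases h with h | h | h | h | h | h | h | h | h | h | h
  · exact H5.PD.row_g2 K h
  · exact H5.PD.row_f4 K h
  · exact H742.PD.row_e6 K h
  · exact H446.PD.row_e7 K h
  · exact H71.PD.row_e8 K h
  · exact H29.PDTwE6.row_2e6 K h
  · exact H699.PD.row_iso3D4 h
  · exact H874.PD.row_sz K h
  · exact H874.PD.row_ree K h
  · exact H874.PD.row_2f4 K h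
  · exact H874.PD.row_tits K h

end Cfsg.Agent.H160.PD
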