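import Cfsg.Agent.H184.PD.RowsA
import Cfsg.Agent.H184.PD.RowsB
import Cfsg.Agent.H184.PD.RowsC
import Cfsg.Agent.H569.PD.Fi22
import Cfsg.Agent.H569.PD.Fi23
import Cfsg.Agent.H569.PD.Fi24
import Cfsg.Agent.H569.PD.HN
import Cfsg.Agent.H569.PD.Th
import Cfsg.Agent.H569.PD.Baby
import Cfsg.Agent.H569.PD.Monster
import Cfsg.Agent.H569.PD.Ly
import Cfsg.Agent.H569.PD.J4
import Cfsg.Agent.H219.PD.RowsCo
import Cfsg.Agent.H219.PD.RowSuz
import Cfsg.Prelude.Def_Classification2

/-!
# The rows of S4246 for the sporadic groups: assembly (helper160)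
-/

set_option autoImplicit false

namespace Cfsg.Agent.H160.PD

open Cfsg

universe u

/-- sporadic groups -/
theorem row_sporadic (hK : Cfsg.Agent.H995.CopEngine.AllKnown.{0}) (hON : ∀ (K : Type u) [Group K] [Finite K] [IsSimpleGroup K], Spor.IsoON K → Row K) (K : Type u) [Group K] [Finite K]
    [IsSimpleGroup K] (h : IsSporadicGroup K) : Row K := by
  rcases h with h | h | h | h | h | h | h | h | h | h | h | h | h | h | h | h | h | h | h | h | h | h | h | h | h | h
  · exact H184.PD.row_m11 K h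
  · exact H184.PD.row_m12 K h
  · exact H184.PD.row_m22 K h
  · exact H184.PD.row_m23 K h
  · exact H184.PD.row_m24 K h
  · exact H184.PD.row_j1 K h
  · exact H184.PD.row_j2 K h
  · exact H184.PD.row_j3 K h
  · exact H569.PD.row_j4 h
  · exact H219.PD.row_co1 K h
  · exact H219.PD.row_co2 K h
  · exact H219.PD.row_co3 K h
  · exact H184.PD.row_mcl K h
  · exact H184.PD.row_hs K h
  · exact H219.PD.row_suz K h
  · exact H184.PD.row_he K h
  · exact H219.PD.row_ru K h
  · exact hON K h
  · exact H569.PD.row_ly h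
  · exact H569.PD.row_fi22 h
  · exact H569.PD.row_fi23 h
  · exact H569.PD.row_fi24 h
  · exact H569.PD.row_hn h
  · exact H569.PD.row_th h
  · exact H569.PD.row_b hK h
  · exact H569.PD.row_m hK h

end Cfsg.Agent.H160.PD
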