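import Cfsg.Agent.H160.PD.AsmCl
import Cfsg.Agent.H160.PD.AsmExc
import Cfsg.Agent.H160.PD.AsmSpor

/-!
# The rows of S4246: assembly over the list of simple groups (helper160)
-/

set_option autoImplicit false

namespace Cfsg.Agent.H160.PD

open Cfsg

universe u

theorem row_known (hK : Cfsg.Agent.H995.CopEngine.AllKnown.{0})
    (hON : ∀ (K : Type u) [Group K] [Finite K] [IsSimpleGroup K], Spor.IsoON K → Row K)
    (K : Type u) [Group K] [Finite K] [IsSimpleGroup K]
    (hna : ¬ IsMulCommutative K) (h : IsKnownSimple' K) : Row K := by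
  rcases h with h | h | h | h | h | h | h | h | h | h
  · exfalso
    have : Fact (Nat.card K).Prime := ⟨h⟩
    have : IsCyclic K := isCyclic_of_prime_card (p := Nat.card K) rfl
    exact hna inferInstance
  · exact row_class K (Or.inl h)
  · exact row_class K (Or.inr (Or.inl h))
  · exact row_class K (Or.inr (Or.inr (Or.inl h)))
  · exact row_class K (Or.inr (Or.inr (Or.inr (Or.inl h))))
  · exact row_class K (Or.inr (Or.inr (Or.inr (Or.inr (Or.inl h)))))
  · exact row_class K (Or.inr (Or.inr (Or.inr (Or.inr (Or.inr (Or.inl h))))))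
  · exact row_class K (Or.inr (Or.inr (Or.inr (Or.inr (Or.inr (Or.inr h))))))
  · exact row_exc K h
  · exact row_sporadic hK hON K h

end Cfsg.Agent.H160.PD
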