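import Cfsg.Agent.H160.PD.Crit

/-!
# S4246: criteria for the rows with one prime and the characteristic (helper160)

`One`, `OneV` : a group in characteristic `p`, one good prime `r`.
-/

set_option autoImplicit false
set_option linter.unusedSectionVars false

namespace Cfsg.Agent.H160.PD

open Subgroup

variable {S : Type*} [Group S] [Finite S]

/-- **The hypotheses of the criterion with one prime** `r` for a group in characteristic `p`. -/
structure One (S : Type*) [Group S] (p r c e m : ℕ) : Prop where
  prime : p.Prime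
  good : Good S r
  /-- the `p`-parts of the centralisers of the elements of order `r` -/
  cent : ∀ x : S, orderOf x = r → v p (centralizer {x}) ≤ c
  /-- the automorphisms of odd prime order fixing elements of order `r` -/
  reg : ∀ b : MulAut S, (orderOf b).Prime → orderOf b ≠ 2 → orderOf b ≠ p → ∀ x : S, orderOf x = r → b x = x →
    v p (Fx b) ≤ e
  /-- all the automorphisms of odd prime order -/
  syl : ∀ b : MulAut S, (orderOf b).Prime → orderOf b ≠ 2 → orderOf b ≠ p →
    v p (Fx b) + max c e + (out S).factorization p < v p S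
  odd : p ≠ 2 → ∀ H : Subgroup S, Odd (Nat.card H) → r ∣ Nat.card H → v p H ≤ m
  inv : p ≠ 2 → ∀ s : S, orderOf s = 2 → v p (centralizer {s}) + max m c + (out S).factorization p < v p S
  two₀ : p ≠ 2 → ∀ x : S, orderOf x = r → v 2 (centralizer {x}) + (out S).factorization 2 < v 2 S
  two₁ : p ≠ 2 → ∀ b : MulAut S, (orderOf b).Prime → orderOf b ≠ 2 → ∀ x : S, orderOf x = r → b x = x →
    v 2 (Fx b) + (out S).factorization 2 < v 2 S

/-- The variant of `One` with the involutions of `MulAut S` and without `|Out S|` in `two₀`, `two₁`. -/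
structure OneV (S : Type*) [Group S] (p r c e m : ℕ) : Prop where
  prime : p.Prime
  good : Good S r
  cent : ∀ x : S, orderOf x = r → v p (centralizer {x}) ≤ c
  reg : ∀ b : MulAut S, (orderOf b).Prime → orderOf b ≠ 2 → orderOf b ≠ p → ∀ x : S, orderOf x = r → b x = x →
    v p (Fx b) ≤ e
  syl : ∀ b : MulAut S, (orderOf b).Prime → orderOf b ≠ 2 → orderOf b ≠ p →
    v p (Fx b) + max c e + (out S).factorization p < v p S
  odd : p ≠ 2 → ∀ H : Subgroup S, Odd (Nat.card H) → r ∣ Nat.card H → v p H ≤ m
  inv : p ≠ 2 → ∀ s : MulAut S, orderOf s = 2 → v p (Fx s) + max m c + (out S).factorization p < v p S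
  two₀ : p ≠ 2 → ∀ x : S, orderOf x = r → v 2 (centralizer {x}) < v 2 S
  two₁ : p ≠ 2 → ∀ b : MulAut S, (orderOf b).Prime → orderOf b ≠ 2 → ∀ x : S, orderOf x = r → b x = x →
    v 2 (Fx b) < v 2 S

variable {p r c e m : ℕ}

/-- the part common to the two criteria -/
theorem row_one_aux (hZ : center S = ⊥) (hp : p.Prime) (hg : Good S r)
    (cent : ∀ x : S, orderOf x = r → v p (centralizer {x}) ≤ c)
    (reg : ∀ b : MulAut S, (orderOf b).Prime → orderOf b ≠ 2 → orderOf b ≠ p → ∀ x : S, orderOf x = r → b x = x →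
      v p (Fx b) ≤ e)
    (syl : ∀ b : MulAut S, (orderOf b).Prime → orderOf b ≠ 2 → orderOf b ≠ p →
      v p (Fx b) + max c e + (out S).factorization p < v p S)
    (odd : p ≠ 2 → ∀ H : Subgroup S, Odd (Nat.card H) → r ∣ Nat.card H → v p H ≤ m)
    (fin : p ≠ 2 → ∀ (π : Set ℕ) (L K L' K' : Subgroup (MulAut S)), Cfg π L K L' K' →
      v p S ≤ v p (tr L') + max m c + (out S).factorization p → In L K r → False) : Row S := by
  have key : ∀ (π : Set ℕ) (L K L' K' : Subgroup (MulAut S)), Cfg π L K L' K' → In L K r → False := by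
    intro π L K L' K' h hI
    have hc := le_max_left c e
    have he := le_max_right c e
    have hc' := le_max_right m c
    have hm := le_max_left m c
    by_cases hpπ : p ∈ π
    · have hp2 : p ≠ 2 := fun h1 => h.two (h1 ▸ hpπ)
      refine fin hp2 π L K L' K' h ?_ hI
      have h2 := v_le hZ L p
      have h3 := h.numL p hp hpπ
      rcases hI with h0 | h0
      · have h4 := odd hp2 (tr L) (h.odd hZ) h0
        simp only [v] at *
        omega
      · obtain ⟨x, hx, hxo⟩ := Cfg.exists_mem hg.prime h0
        have h4 := (v_mono (h.trL_le_centralizer hZ hx) p).trans (cent x hxo)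
        simp only [v] at *
        omega
    · have h4 : v p (tr K) ≤ max c e := by
        rcases hI with h0 | h0
        · obtain ⟨x, hx, hxo⟩ := Cfg.exists_mem hg.prime h0
          exact ((v_mono (h.trK_le_centralizer hZ hx) p).trans (cent x hxo)).trans hc
        · obtain ⟨x, hx, hxo⟩ := Cfg.exists_mem hg.prime h0
          obtain ⟨b, hb, t, ht, htπ, ht2, hbo⟩ := h.exists_prime
          exact ((v_mono (h.trK_le hZ hb) p).trans (reg b (hbo ▸ ht) (by rw [hbo]; exact ht2)
            (by rw [hbo]; rintro rfl; exact hpπ htπ) x hxo (h.fix hZ hb hx))).trans he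
      obtain ⟨b, hb, t, ht, htπ, ht2, hbo⟩ := h.symm.exists_prime
      have h5 := syl b (hbo ▸ ht) (by rw [hbo]; exact ht2) (by rw [hbo]; rintro rfl; exact hpπ htπ)
      have h6 := v_mono (h.symm.trK_le hZ hb) p
      have h7 := v_le hZ K p
      have h8 := h.numK p hp hpπ
      simp only [v] at *
      omega
  intro π L K L' K' h
  rcases h.cover hZ hg with h0 | h0
  · exact key _ _ _ _ _ h h0
  · exact key _ _ _ _ _ h.symm h0

/-- **The criterion with one prime.** -/
theorem One.row (hZ : center S = ⊥) (H : One S p r c e m) : Row S := by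
  refine row_one_aux hZ H.prime H.good H.cent H.reg H.syl H.odd ?_
  intro hp2 π L K L' K' h hL' hI
  have h1 : v 2 (tr K) + (out S).factorization 2 < v 2 S := by
    rcases hI with h0 | h0
    · obtain ⟨x, hx, hxo⟩ := Cfg.exists_mem H.good.prime h0
      have h2 := v_mono (h.trK_le_centralizer hZ hx) 2
      have h3 := H.two₀ hp2 x hxo
      omega
    · obtain ⟨x, hx, hxo⟩ := Cfg.exists_mem H.good.prime h0
      obtain ⟨b, hb, t, ht, -, ht2, hbo⟩ := h.exists_prime
      have h2 := v_mono (h.trK_le hZ hb) 2
      have h3 := H.two₁ hp2 b (hbo ▸ ht) (by rw [hbo]; exact ht2) x hxo (h.fix hZ hb hx)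
      omega
  have h2 := v_le hZ K 2
  have h3 := h.numK 2 Nat.prime_two h.two
  have h4 : 2 ∣ Nat.card (tr K') := by
    rw [← v_pos Nat.prime_two]
    simp only [v] at *
    omega
  obtain ⟨s, hs, hso⟩ := Cfg.exists_mem Nat.prime_two h4
  have h5 := v_mono (h.symm.trL_le_centralizer hZ hs) p
  have h6 := H.inv hp2 s hso
  simp only [v] at *
  omega

/-- **The variant.** -/
theorem OneV.row (hZ : center S = ⊥) (H : OneV S p r c e m) : Row S := by
  refine row_one_aux hZ H.prime H.good H.cent H.reg H.syl H.odd ?_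
  intro hp2 π L K L' K' h hL' hI
  have h1 : v 2 (tr K) < v 2 S := by
    rcases hI with h0 | h0
    · obtain ⟨x, hx, hxo⟩ := Cfg.exists_mem H.good.prime h0
      have h2 := v_mono (h.trK_le_centralizer hZ hx) 2
      have h3 := H.two₀ hp2 x hxo
      omega
    · obtain ⟨x, hx, hxo⟩ := Cfg.exists_mem H.good.prime h0
      obtain ⟨b, hb, t, ht, -, ht2, hbo⟩ := h.exists_prime
      have h2 := v_mono (h.trK_le hZ hb) 2
      have h3 := H.two₁ hp2 b (hbo ▸ ht) (by rw [hbo]; exact ht2) x hxo (h.fix hZ hb hx)
      omega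
  have h3 := h.numK' 2 Nat.prime_two h.two
  have h4 : 2 ∣ Nat.card K' := by
    rw [← v_pos Nat.prime_two]
    simp only [v] at *
    omega
  have := Fact.mk Nat.prime_two
  obtain ⟨⟨s, hs⟩, hso⟩ := exists_prime_orderOf_dvd_card' 2 h4
  have hso' : orderOf s = 2 := by rw [← hso]; exact (Subgroup.orderOf_mk s hs).symm
  have h5 : tr L' ≤ Fx s := fun x hx => h.symm.fixK hZ hs hx
  have h5' := v_mono h5 p
  have h6 := H.inv hp2 s hso'
  simp only [v] at *
  omega

end Cfsg.Agent.H160.PD
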