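import Cfsg.Agent.H109.PD.Psl
import Cfsg.Agent.H889.PDL.Row
import Cfsg.Agent.H715.PDU.Main
import Cfsg.Agent.H767.PD.RowPsp
import Cfsg.Agent.H311.PD.Minus4
import Cfsg.Agent.H898.PDOddC
import Cfsg.Agent.H528.PDAlt.Main
import Cfsg.Agent.H14.PD.RowPlus
import Cfsg.Prelude.Def_Classification2

/-!
# The rows of S4246 for the alternating and classical groups: assembly (helper160)
-/

set_option autoImplicit false

namespace Cfsg.Agent.H160.PD

open Cfsg

universe u

theorem row_psl (K : Type u) [Group K] [Finite K] [IsSimpleGroup K] (h : IsPSL K) : Row K := by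
  obtain ⟨F, _, _, n, hn, h2, ⟨e⟩⟩ := h
  rcases Nat.lt_or_ge n 3 with h3 | h3
  · obtain rfl : n = 2 := by omega
    have h4 : 4 ≤ Nat.card F := by
      rw [Nat.card_eq_fintype_card]
      exact h2 rfl
    exact (H109.PD.row_psl2 F h4).congr e
  · exact H889.PDL.row_psl_three K h3 F e

theorem row_class (K : Type u) [Group K] [Finite K] [IsSimpleGroup K]
    (h : IsAlternating K ∨ IsPSL K ∨ IsPSp K ∨ IsPSU K ∨ IsPOmegaOdd K ∨ IsPOmegaPlus K ∨ IsPOmegaMinus K) :
    Row K := by
  rcases h with h | h | h | h | h | h | h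
  · exact H528.PDAlt.row_alt K h
  · exact row_psl K h
  · exact H767.PD.row_psp K h
  · exact H715.PDU.row_psu K h
  · exact H898.PDOdd.row_oodd h
  · exact H14.PD.row_oplus h
  · exact H311.PD.row_ominus h

end Cfsg.Agent.H160.PD
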