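import Mathlib

/-!
# S4246: products of two `π`-decomposable groups, the rows for simple groups (helper160, helper817)

`Row S` : there is no configuration `Cfg π L K L' K'`: `π` a set of odd primes, one of them divides `|S|`,
`L × K` and `L' × K'` subgroups of `MulAut S`, `L ≠ 1 ≠ L'` are `π`-groups, `K`, `K'` are `π'`-groups, and for every
prime `r` the `r`-part of `|S|` is at most the product of the `r`-parts of `|L × K|` and `|(L' × K') ∩ Inn S|`, and
of `|(L × K) ∩ Inn S|` and `|L' × K'|`.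
-/

set_option autoImplicit false

namespace Cfsg.Agent.H160.PD

open Subgroup

variable {S : Type*} [Group S]

/-- the trace of a group of automorphisms on `S` -/
def tr (H : Subgroup (MulAut S)) : Subgroup S := H.comap (MulAut.conj : S →* MulAut S)

/-- `|Out S|` -/
noncomputable def out (S : Type*) [Group S] : ℕ := (MulAut.conj : S →* MulAut S).range.index

/-- the fixed points of `b` -/
def Fx (b : MulAut S) : Subgroup S where
  carrier := {s | b s = s}
  mul_mem' := fun {x y} hx hy => by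
    rw [Set.mem_ofPred_eq] at hx hy ⊢
    rw [map_mul, hx, hy]
  one_mem' := map_one b
  inv_mem' := fun {x} hx => by
    rw [Set.mem_ofPred_eq] at hx ⊢
    rw [map_inv, hx]

theorem mem_Fx {b : MulAut S} {s : S} : s ∈ Fx b ↔ b s = s := Iff.rfl

theorem mem_tr {H : Subgroup (MulAut S)} {s : S} : s ∈ tr H ↔ MulAut.conj s ∈ H := Iff.rfl

/-- the configurations -/
structure Cfg (π : Set ℕ) (L K L' K' : Subgroup (MulAut S)) : Prop where
  two : 2 ∉ π
  dvd : ∃ r, r.Prime ∧ r ∈ π ∧ r ∣ Nat.card S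
  piL : ∀ r, r.Prime → r ∣ Nat.card L → r ∈ π
  piL' : ∀ r, r.Prime → r ∣ Nat.card L' → r ∈ π
  piK : ∀ r, r.Prime → r ∣ Nat.card K → r ∉ π
  piK' : ∀ r, r.Prime → r ∣ Nat.card K' → r ∉ π
  comm : ∀ a ∈ L, ∀ b ∈ K, a * b = b * a
  comm' : ∀ a ∈ L', ∀ b ∈ K', a * b = b * a
  ne : L ≠ ⊥
  ne' : L' ≠ ⊥
  numL : ∀ r, r.Prime → r ∈ π →
    (Nat.card S).factorization r ≤ (Nat.card L).factorization r + (Nat.card (tr L')).factorization r
  numL' : ∀ r, r.Prime → r ∈ π →
    (Nat.card S).factorization r ≤ (Nat.card L').factorization r + (Nat.card (tr L)).factorization r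
  numK : ∀ r, r.Prime → r ∉ π →
    (Nat.card S).factorization r ≤ (Nat.card K).factorization r + (Nat.card (tr K')).factorization r
  numK' : ∀ r, r.Prime → r ∉ π →
    (Nat.card S).factorization r ≤ (Nat.card K').factorization r + (Nat.card (tr K)).factorization r

/-- **The row.** -/
def Row (S : Type*) [Group S] : Prop :=
  ∀ (π : Set ℕ) (L K L' K' : Subgroup (MulAut S)), ¬ Cfg π L K L' K'

namespace Cfg

variable {π : Set ℕ} {L K L' K' : Subgroup (MulAut S)}

theorem symm (h : Cfg π L K L' K') : Cfg π L' K' L K :=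
  ⟨h.two, h.dvd, h.piL', h.piL, h.piK', h.piK, h.comm', h.comm, h.ne', h.ne, h.numL', h.numL, h.numK', h.numK⟩

end Cfg

/-! ### transport -/

section congr

variable {T : Type*} [Group T]

theorem map_tr (e : S ≃* T) (H : Subgroup (MulAut S)) :
    (tr H).map e.toMonoidHom = tr (H.map (MulAut.congr e).toMonoidHom) := by
  ext t
  rw [mem_tr, mem_map, mem_map]
  constructor
  · rintro ⟨s, hs, rfl⟩
    refine ⟨MulAut.conj s, hs, ?_⟩
    ext x
    simp [MulAut.congr]
  · rintro ⟨b, hb, hbt⟩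
    refine ⟨e.symm t, ?_, by simp⟩
    rw [mem_tr]
    have : MulAut.conj (e.symm t) = b := by
      apply (MulAut.congr e).injective
      rw [show (MulAut.congr e) b = MulAut.conj t from hbt]
      ext x
      simp [MulAut.congr]
    rw [this]
    exact hb

theorem card_map' {A B : Type*} [Group A] [Group B] (e : A ≃* B) (H : Subgroup A) :
    Nat.card (H.map e.toMonoidHom) = Nat.card H :=
  Nat.card_congr (H.equivMapOfInjective e.toMonoidHom e.injective).symm.toEquiv

theorem Cfg.congr (e : S ≃* T) {π : Set ℕ} {L K L' K' : Subgroup (MulAut S)} (h : Cfg π L K L' K') :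
    Cfg π (L.map (MulAut.congr e).toMonoidHom) (K.map (MulAut.congr e).toMonoidHom)
      (L'.map (MulAut.congr e).toMonoidHom) (K'.map (MulAut.congr e).toMonoidHom) := by
  have hc : ∀ H : Subgroup (MulAut S), Nat.card (H.map (MulAut.congr e).toMonoidHom) = Nat.card H :=
    fun H => card_map' _ H
  have ht : ∀ H : Subgroup (MulAut S), Nat.card (tr (H.map (MulAut.congr e).toMonoidHom)) = Nat.card (tr H) :=
    fun H => by rw [← map_tr]; exact card_map' e _
  have hS : Nat.card T = Nat.card S := Nat.card_congr e.symm.toEquiv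
  have hcm : ∀ A B : Subgroup (MulAut S), (∀ a ∈ A, ∀ b ∈ B, a * b = b * a) →
      ∀ a ∈ A.map (MulAut.congr e).toMonoidHom, ∀ b ∈ B.map (MulAut.congr e).toMonoidHom, a * b = b * a := by
    rintro A B hAB _ ⟨a, ha, rfl⟩ _ ⟨b, hb, rfl⟩
    rw [← map_mul, hAB a ha b hb, map_mul]
  have hne : ∀ A : Subgroup (MulAut S), A ≠ ⊥ → A.map (MulAut.congr e).toMonoidHom ≠ ⊥ := by
    intro A hA h0
    exact hA ((map_eq_bot_iff_of_injective A (MulAut.congr e).injective).1 h0)
  obtain ⟨h2, hd, h3, h4, h5, h6, h7, h8, h9, h10, h11, h12, h13, h14⟩ := h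
  refine ⟨h2, ?_, ?_, ?_, ?_, ?_, hcm _ _ h7, hcm _ _ h8, hne _ h9, hne _ h10, ?_, ?_, ?_, ?_⟩
  · rwa [hS]
  · rwa [hc]
  · rwa [hc]
  · rwa [hc]
  · rwa [hc]
  · rwa [hc, ht, hS]
  · rwa [hc, ht, hS]
  · rwa [hc, ht, hS]
  · rwa [hc, ht, hS]

theorem Row.congr (e : S ≃* T) (h : Row T) : Row S := fun _ _ _ _ _ hc => h _ _ _ _ _ (hc.congr e)

end congr

end Cfsg.Agent.H160.PD
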