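import Cfsg.Agent.H160.PD.Crit


/-!
# S4246: criteria for the sporadic groups (helper160)

* `Isol S r` : every element of prime order commuting with an element of order `r` has order `r`;
* `row_spor` : `|Out S| ∣ 2`, one isolated prime, no element of odd prime order centralises a subgroup of index `|Out S|`
  in a Sylow `2`-subgroup;
* `row_spor_two` : `|Out S| ∣ 2`, two isolated primes with `NoOdd`;
* `noCent_of_constrained` : the hypothesis of `row_spor` from `C_C(O_2(C)) ≤ O_2(C)` for the centralisers `C` of the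
  involutions in the centre of a Sylow `2`-subgroup.
-/

set_option autoImplicit false
set_option linter.unusedSectionVars false

namespace Cfsg.Agent.H160.PD

open Subgroup

variable {S : Type*} [Group S]

/-- every element of prime order commuting with an element of order `r` has order `r` -/
def Isol (S : Type*) [Group S] (r : ℕ) : Prop :=
  ∀ x y : S, orderOf x = r → (orderOf y).Prime → x * y = y * x → orderOf y = r

/-- no element of odd prime order centralises a subgroup of `2`-index at most `|Out S|` -/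
def NoCent (S : Type*) [Group S] : Prop :=
  ∀ b : S, (orderOf b).Prime → orderOf b ≠ 2 → v 2 (centralizer ({b} : Set S)) + (out S).factorization 2 < v 2 S

variable [Finite S]

theorem Isol.not_dvd {r t : ℕ} (h : Isol S r) {x : S} (hx : orderOf x = r) (ht : t.Prime) (htr : t ≠ r)
    {H : Subgroup S} (hH : ∀ y ∈ H, x * y = y * x) : ¬ t ∣ Nat.card H := by
  intro hd
  obtain ⟨y, hy, hyo⟩ := Cfg.exists_mem ht hd
  exact htr (hyo ▸ h x y hx (hyo ▸ ht) (hH y hy))

/-- `|Out S| ∣ 2`: the elements of odd order of `MulAut S` are inner -/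
theorem inner_of_odd (hout : out S ∣ 2) {b : MulAut S} (hb : Odd (orderOf b)) : ∃ s : S, MulAut.conj s = b := by
  have hN : (MulAut.conj : S →* MulAut S).range.Normal := conj_range_normal
  have h2 : b ^ 2 ∈ (MulAut.conj : S →* MulAut S).range := by
    obtain ⟨k, hk⟩ := hout
    have h1 : b ^ (out S) ∈ (MulAut.conj : S →* MulAut S).range := Subgroup.pow_index_mem _ b
    rw [hk, pow_mul]
    exact pow_mem h1 k
  obtain ⟨m, hm⟩ := hb
  have h3 : b = (b ^ 2) ^ (m + 1) := by
    have h4 : b ^ (2 * m + 1) = 1 := by rw [← hm]; exact pow_orderOf_eq_one b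
    rw [← pow_mul, show 2 * (m + 1) = (2 * m + 1) + 1 by ring, pow_succ, h4, one_mul]
  obtain ⟨s, hs⟩ := pow_mem h2 (m + 1)
  exact ⟨s, hs.trans h3.symm⟩

theorem orderOf_conj (hZ : center S = ⊥) (s : S) : orderOf (MulAut.conj s) = orderOf s :=
  orderOf_injective _ (conj_injective hZ) s

/-- the fixed points of an inner automorphism -/
theorem Fx_conj (s : S) : Fx (MulAut.conj s) = centralizer ({s} : Set S) := by
  ext y
  rw [mem_Fx, mem_centralizer_singleton_iff, MulAut.conj_apply, mul_inv_eq_iff_eq_mul]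
  exact eq_comm

theorem good_of_odd (hout : out S ∣ 2) {r : ℕ} (hr : r.Prime) (hr2 : r ≠ 2) (hd : r ∣ Nat.card S) : Good S r where
  prime := hr
  odd := hr2
  lt := by
    have h1 : (out S).factorization r = 0 := by
      apply Nat.factorization_eq_zero_of_not_dvd
      intro h
      exact hr2 ((Nat.prime_dvd_prime_iff_eq hr Nat.prime_two).1 (h.trans hout))
    rw [h1]
    exact (v_pos hr).2 hd

namespace Cfg

variable {π : Set ℕ} {L K L' K' : Subgroup (MulAut S)}

/-- `|Out S| ∣ 2`: `L` is inner -/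
theorem inner (hout : out S ∣ 2) (h : Cfg π L K L' K') {b : MulAut S} (hb : b ∈ L) : ∃ s ∈ tr L, MulAut.conj s = b := by
  have h1 : Odd (Nat.card L) := by
    rw [← Nat.not_even_iff_odd, even_iff_two_dvd]
    exact fun h2 => h.two (h.piL 2 Nat.prime_two h2)
  have h2 : Odd (orderOf b) := h1.of_dvd_nat ((Subgroup.orderOf_mk b hb) ▸ orderOf_dvd_natCard (⟨b, hb⟩ : L))
  obtain ⟨s, hs⟩ := inner_of_odd hout h2
  exact ⟨s, by rw [mem_tr, hs]; exact hb, hs⟩

/-- an isolated prime is not in `K` -/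
theorem isol_K (hZ : center S = ⊥) (hout : out S ∣ 2) (h : Cfg π L K L' K') {r : ℕ} (hr : r.Prime) (hI : Isol S r)
    (h0 : r ∣ Nat.card (tr K)) : False := by
  obtain ⟨x, hx, hxo⟩ := exists_mem hr h0
  obtain ⟨b, hb, t, ht, htπ, ht2, hbo⟩ := h.exists_prime
  obtain ⟨s, hs, rfl⟩ := h.inner hout hb
  rw [orderOf_conj hZ] at hbo
  have h1 := hI x s hxo (hbo ▸ ht) (h.tr_comm hZ hs hx).symm
  have h2 := h.not_mem_pi hZ hx hr hxo
  rw [hbo] at h1
  exact h2 (h1 ▸ htπ)

/-- an isolated prime in `L`: `tr K = 1` -/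
theorem isol_L (hZ : center S = ⊥) (h : Cfg π L K L' K') {r : ℕ} (hr : r.Prime) (hI : Isol S r)
    (h0 : r ∣ Nat.card (tr L)) : v 2 (tr K) = 0 := by
  obtain ⟨x, hx, hxo⟩ := exists_mem hr h0
  apply v_eq_zero
  refine hI.not_dvd hxo Nat.prime_two ?_ fun y hy => h.tr_comm hZ hx hy
  rintro rfl
  exact h.two (h.mem_pi hZ hx hr hxo)

end Cfg

/-- **The criterion for the sporadic groups.** -/
theorem row_spor (hZ : center S = ⊥) (hout : out S ∣ 2) {r : ℕ} (hr : r.Prime) (hr2 : r ≠ 2) (hd : r ∣ Nat.card S)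
    (hI : Isol S r) (hN : NoCent S) : Row S := by
  have key : ∀ (π : Set ℕ) (L K L' K' : Subgroup (MulAut S)), Cfg π L K L' K' → In L K r → False := by
    intro π L K L' K' h h0
    rcases h0 with h0 | h0
    · have h1 := h.isol_L hZ hr hI h0
      obtain ⟨b, hb, t, ht, htπ, ht2, hbo⟩ := h.symm.exists_prime
      obtain ⟨s, hs, rfl⟩ := h.symm.inner hout hb
      rw [orderOf_conj hZ] at hbo
      have h2 := hN s (hbo ▸ ht) (by rw [hbo]; exact ht2)
      have h3 := v_mono (h.symm.trK_le_centralizer hZ hs) 2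
      have h4 := v_le hZ K 2
      have h5 := h.numK 2 Nat.prime_two h.two
      simp only [v] at *
      omega
    · exact h.isol_K hZ hout hr hI h0
  intro π L K L' K' h
  rcases h.cover hZ (good_of_odd hout hr hr2 hd) with h0 | h0
  · exact key _ _ _ _ _ h h0
  · exact key _ _ _ _ _ h.symm h0

/-- **The criterion with two isolated primes.** -/
theorem row_spor_two (hZ : center S = ⊥) (hout : out S ∣ 2) (h2 : 2 ≤ v 2 S) {r s : ℕ} (hr : r.Prime) (hr2 : r ≠ 2)
    (hd : r ∣ Nat.card S) (hI : Isol S r) (hs : s.Prime) (hs2 : s ≠ 2) (hds : s ∣ Nat.card S) (hIs : Isol S s)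
    (hN : NoOdd S r s) : Row S := by
  have h20 : (out S).factorization 2 ≤ 1 := by
    have h1 := (Nat.factorization_le_iff_dvd out_ne_zero two_ne_zero).2 hout 2
    rwa [Nat.Prime.factorization_self Nat.prime_two] at h1
  have key : ∀ (π : Set ℕ) (L K L' K' : Subgroup (MulAut S)), Cfg π L K L' K' → In L K r → False := by
    intro π L K L' K' h h0
    have hr0 : r ∣ Nat.card (tr L) := h0.resolve_right fun h1 => h.isol_K hZ hout hr hI h1
    have h1 := h.isol_L hZ hr hI hr0
    rcases h.cover hZ (good_of_odd hout hs hs2 hds) with (h3 | h3) | (h3 | h3)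
    · exact h.exclLL hZ hN hr0 h3
    · exact h.isol_K hZ hout hs hIs h3
    · have h4 := h.symm.isol_L hZ hs hIs h3
      have h5 := v_le hZ K 2
      have h6 := h.numK 2 Nat.prime_two h.two
      simp only [v] at *
      omega
    · exact h.symm.isol_K hZ hout hs hIs h3
  intro π L K L' K' h
  rcases h.cover hZ (good_of_odd hout hr hr2 hd) with h0 | h0
  · exact key _ _ _ _ _ h h0
  · exact key _ _ _ _ _ h.symm h0

/-! ### `NoCent` from the centralisers of involutions -/

/-- the centraliser of `z` has a normal `2`-subgroup containing its centraliser: `C_C(O_2(C)) ≤ O_2(C)` -/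
def Con (z : S) : Prop :=
  ∃ Q : Subgroup S, IsPGroup 2 Q ∧ Q ≤ centralizer ({z} : Set S) ∧
    centralizer ({z} : Set S) ≤ normalizer (Q : Set S) ∧
    ∀ b ∈ centralizer ({z} : Set S), (∀ y ∈ Q, b * y = y * b) → b ∈ Q

/-- an element of odd order normalising `Q` and centralising a subgroup of index `≤ 2` of `Q` centralises `Q` -/
theorem comm_of_index_two {Q Q0 : Subgroup S} (hQ : IsPGroup 2 Q) (h0 : Q0 ≤ Q)
    (hi : ∀ y ∈ Q, ∀ w ∈ Q, y ∉ Q0 → w ∉ Q0 → y * w⁻¹ ∈ Q0) {b : S} (hb : Odd (orderOf b))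
    (hbQ : b ∈ normalizer (Q : Set S)) (hb0 : ∀ y ∈ Q0, b * y = y * b) : ∀ y ∈ Q, b * y = y * b := by
  intro y hy
  by_cases hy0 : y ∈ Q0
  · exact hb0 y hy0
  have h1 : b * y * b⁻¹ ∈ Q := (mem_normalizer_iff.1 hbQ y).1 hy
  have h2 : b * y * b⁻¹ ∉ Q0 := by
    intro h3
    have h4 := hb0 _ h3
    apply hy0
    have h5 : b * y * b⁻¹ = y := by
      have h6 : b * (b * y * b⁻¹) = b * y := by rw [h4]; group
      exact mul_left_cancel h6
    rwa [h5] at h3
  set c := b * y * b⁻¹ * y⁻¹ with hc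
  have hc0 : c ∈ Q0 := hi _ h1 _ hy h2 hy0
  have hcb : b * c = c * b := hb0 c hc0
  have hby : b * y * b⁻¹ = c * y := by rw [hc]; group
  have hn : ∀ n : ℕ, b ^ n * y * (b ^ n)⁻¹ = c ^ n * y := by
    intro n
    induction n with
    | zero => simp
    | succ n ih =>
      have h3 : b * c ^ n = c ^ n * b := ((show Commute b c from hcb).pow_right n).eq
      calc b ^ (n + 1) * y * (b ^ (n + 1))⁻¹ = b * (b ^ n * y * (b ^ n)⁻¹) * b⁻¹ := by rw [pow_succ']; group
        _ = b * c ^ n * y * b⁻¹ := by rw [ih]; group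
        _ = c ^ n * (b * y * b⁻¹) := by rw [h3]; group
        _ = c ^ (n + 1) * y := by rw [hby, pow_succ]; group
  have h3 : c ^ orderOf b = 1 := by
    have h4 := hn (orderOf b)
    rw [pow_orderOf_eq_one, one_mul, inv_one, mul_one] at h4
    exact (mul_eq_right.1 h4.symm)
  have h4 : c = 1 := by
    obtain ⟨k, hk⟩ := hQ ⟨c, h0 hc0⟩
    have h5 : c ^ 2 ^ k = 1 := by simpa using congrArg Subtype.val hk
    have h6 : orderOf c ∣ Nat.gcd (2 ^ k) (orderOf b) :=
      Nat.dvd_gcd (orderOf_dvd_of_pow_eq_one h5) (orderOf_dvd_of_pow_eq_one h3)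
    have h7 : Nat.Coprime (2 ^ k) (orderOf b) := Nat.Coprime.pow_left _ (Nat.coprime_two_left.2 hb)
    rw [h7, Nat.dvd_one, orderOf_eq_one_iff] at h6
    exact h6
  rw [h4, one_mul] at hby
  exact mul_inv_eq_iff_eq_mul.1 hby

/-- the common part: `T₁ ≤ C(b)`, `z ∈ T₁` an involution central in a Sylow `2`-subgroup `T` -/
theorem Con.false_of {z b : S} (hz : Con z) (hb : Odd (orderOf b)) (hb1 : b ≠ 1) (T : Sylow 2 S)
    (hzT : ∀ y ∈ (T : Subgroup S), z * y = y * z) (T1 : Subgroup S) (hzT1 : z ∈ T1)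
    (hbT : ∀ y ∈ T1, b * y = y * b)
    (hi : ∀ y ∈ (T : Subgroup S), ∀ w ∈ (T : Subgroup S), y ∉ T1 → w ∉ T1 → y * w⁻¹ ∈ T1) : False := by
  obtain ⟨Q, hQ2, hQz, hQn, hQc⟩ := hz
  have hbz : b ∈ centralizer ({z} : Set S) := mem_centralizer_singleton_iff.2 (hbT z hzT1)
  have hTz : (T : Subgroup S) ≤ centralizer ({z} : Set S) := fun y hy =>
    mem_centralizer_singleton_iff.2 (hzT y hy).symm
  have hQT : Q ≤ (T : Subgroup S) := by
    have h1 : IsPGroup 2 ↥((T : Subgroup S) ⊔ Q) := T.isPGroup'.to_sup_of_normal_right' hQ2 (hTz.trans hQn)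
    have h2 : (T : Subgroup S) ⊔ Q = T := T.is_maximal' h1 le_sup_left
    rw [← h2]
    exact le_sup_right
  have h3 : ∀ y ∈ Q, b * y = y * b := by
    refine comm_of_index_two (Q0 := Q ⊓ T1) hQ2 inf_le_left ?_ hb (hQn hbz) fun y hy => hbT y hy.2
    intro y hy w hw hy0 hw0
    exact ⟨Q.mul_mem hy (Q.inv_mem hw), hi y (hQT hy) w (hQT hw) (fun h => hy0 ⟨hy, h⟩) (fun h => hw0 ⟨hw, h⟩)⟩
  have h4 : b ∈ Q := hQc b hbz h3
  obtain ⟨k, hk⟩ := hQ2 ⟨b, h4⟩
  have h5 : b ^ 2 ^ k = 1 := by simpa using congrArg Subtype.val hk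
  have h6 : orderOf b ∣ Nat.gcd (2 ^ k) (orderOf b) := Nat.dvd_gcd (orderOf_dvd_of_pow_eq_one h5) dvd_rfl
  have h7 : Nat.Coprime (2 ^ k) (orderOf b) := Nat.Coprime.pow_left _ (Nat.coprime_two_left.2 hb)
  rw [h7, Nat.dvd_one, orderOf_eq_one_iff] at h6
  exact hb1 h6

/-- an involution in the centre of a nontrivial `2`-subgroup -/
theorem exists_central {R : Subgroup S} (hR : IsPGroup 2 R) (hR1 : R ≠ ⊥) :
    ∃ z ∈ R, orderOf z = 2 ∧ ∀ y ∈ R, z * y = y * z := by
  have h2F : Fact (Nat.Prime 2) := ⟨Nat.prime_two⟩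
  have : Nontrivial R := (Subgroup.nontrivial_iff_ne_bot R).2 hR1
  have hc := hR.center_nontrivial
  have hcp : IsPGroup 2 ↥(center R) := hR.to_subgroup _
  obtain ⟨k, hk⟩ := IsPGroup.iff_card.1 hcp
  have hd : 2 ∣ Nat.card ↥(center R) := by
    have h1 : 1 < Nat.card ↥(center R) := Finite.one_lt_card_iff_nontrivial.2 hc
    rw [hk] at h1 ⊢
    apply dvd_pow_self
    rintro rfl
    simp at h1
  obtain ⟨⟨⟨x, hxR⟩, hxc⟩, hxo⟩ := exists_prime_orderOf_dvd_card' 2 hd
  refine ⟨x, hxR, ?_, fun y hy => ?_⟩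
  · rw [← hxo, Subgroup.orderOf_mk, Subgroup.orderOf_mk]
  · exact (congrArg Subtype.val (mem_center_iff.1 hxc ⟨y, hy⟩)).symm

/-- the Sylow `2`-subgroups of `C(b)` and of `S` -/
theorem exists_sylow_pair {b : S} (hb : v 2 S ≤ v 2 (centralizer ({b} : Set S)) + 1) :
    ∃ (T : Sylow 2 S) (T1 : Subgroup S), T1 ≤ T ∧ Nat.card T1 = 2 ^ v 2 (centralizer ({b} : Set S)) ∧
      IsPGroup 2 T1 ∧ (∀ y ∈ T1, b * y = y * b) ∧
      ∀ y ∈ (T : Subgroup S), ∀ w ∈ (T : Subgroup S), y ∉ T1 → w ∉ T1 → y * w⁻¹ ∈ T1 := by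
  have h2F : Fact (Nat.Prime 2) := ⟨Nat.prime_two⟩
  obtain ⟨P⟩ : Nonempty (Sylow 2 ↥(centralizer ({b} : Set S))) := inferInstance
  set T1 : Subgroup S := (P : Subgroup ↥(centralizer ({b} : Set S))).map (centralizer ({b} : Set S)).subtype with hT1
  have hT1p : IsPGroup 2 T1 := P.isPGroup'.map _
  have hT1c : Nat.card T1 = 2 ^ v 2 (centralizer ({b} : Set S)) := by
    rw [hT1, ← P.card_eq_multiplicity]
    exact (Nat.card_congr ((P : Subgroup ↥(centralizer ({b} : Set S))).equivMapOfInjective _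
      (centralizer ({b} : Set S)).subtype_injective).toEquiv).symm
  have hbT : ∀ y ∈ T1, b * y = y * b := by
    rintro _ ⟨y, -, rfl⟩
    exact (mem_centralizer_singleton_iff.1 y.2).symm
  obtain ⟨T, hT⟩ := hT1p.exists_le_sylow
  have hTc : Nat.card T = 2 ^ v 2 S := T.card_eq_multiplicity
  refine ⟨T, T1, hT, hT1c, hT1p, hbT, ?_⟩
  have h1 := Subgroup.card_mul_index (T1.subgroupOf (T : Subgroup S))
  rw [Nat.card_congr (Subgroup.subgroupOfEquivOfLe hT).toEquiv, hT1c, hTc] at h1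
  set U := T1.subgroupOf (T : Subgroup S) with hU
  have h2 : U.index ≤ 2 := by
    by_contra h3
    push Not at h3
    have h4 : 2 ^ v 2 S ≤ 2 ^ (v 2 (centralizer ({b} : Set S)) + 1) := Nat.pow_le_pow_right (by norm_num) hb
    rw [← h1, pow_succ] at h4
    have h5 : 0 < 2 ^ v 2 (centralizer ({b} : Set S)) := by positivity
    have h6 := Nat.le_of_mul_le_mul_left h4 h5
    omega
  have h3 : 0 < U.index := Nat.pos_of_ne_zero U.index_ne_zero_of_finite
  intro y hy w hw hy1 hw1
  have hyU : (⟨y, hy⟩ : (T : Subgroup S)) ∉ U := fun h => hy1 (mem_subgroupOf.1 h)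
  have hwU : (⟨w, hw⟩ : (T : Subgroup S)) ∉ U := fun h => hw1 (mem_subgroupOf.1 h)
  have h4 : U.index = 2 := by
    rcases (show U.index = 1 ∨ U.index = 2 by omega) with h5 | h5
    · exact absurd (Subgroup.index_eq_one.1 h5 ▸ mem_top _) hyU
    · exact h5
  have h5 : (⟨y, hy⟩ : (T : Subgroup S)) * (⟨w, hw⟩ : (T : Subgroup S))⁻¹ ∈ U := by
    rw [Subgroup.mul_mem_iff_of_index_two h4, inv_mem_iff]
    exact ⟨fun h => absurd h hyU, fun h => absurd h hwU⟩
  exact mem_subgroupOf.1 h5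

/-- **`NoCent`** : `|Out S| ∣ 2` and all the involutions central in a Sylow `2`-subgroup satisfy `Con`. -/
theorem noCent_of_con (hout : out S ∣ 2) (h2 : 2 ≤ v 2 S)
    (hC : ∀ z : S, orderOf z = 2 → v 2 (centralizer ({z} : Set S)) = v 2 S → Con z) : NoCent S := by
  intro b hbp hb2
  by_contra hcon
  push Not at hcon
  have h20 : (out S).factorization 2 ≤ 1 := by
    have h1 := (Nat.factorization_le_iff_dvd out_ne_zero two_ne_zero).2 hout 2
    rwa [Nat.Prime.factorization_self Nat.prime_two] at h1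
  have hbo : Odd (orderOf b) := hbp.odd_of_ne_two hb2
  have hb1 : b ≠ 1 := by rintro rfl; rw [orderOf_one] at hbp; exact Nat.not_prime_one hbp
  obtain ⟨T, T1, hT, hT1c, hT1p, hbT, hi⟩ := exists_sylow_pair (b := b) (by omega)
  have hT11 : T1 ≠ ⊥ := by
    intro h0
    rw [h0, Subgroup.card_bot] at hT1c
    have h3 := Nat.pow_eq_one.1 hT1c.symm
    omega
  have hTc : Nat.card T = 2 ^ v 2 S := by
    have h2F : Fact (Nat.Prime 2) := ⟨Nat.prime_two⟩
    exact T.card_eq_multiplicity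
  have hTp : IsPGroup 2 (T : Subgroup S) := T.isPGroup'
  have hT1' : (T : Subgroup S) ≠ ⊥ := fun h0 => hT11 (le_bot_iff.1 (h0 ▸ hT))
  have hfull : ∀ z : S, (∀ y ∈ (T : Subgroup S), z * y = y * z) → v 2 (centralizer ({z} : Set S)) = v 2 S := by
    intro z hz
    have hTz : (T : Subgroup S) ≤ centralizer ({z} : Set S) := fun y hy =>
      mem_centralizer_singleton_iff.2 (hz y hy).symm
    have h3 := v_mono hTz 2
    have h4 : v 2 (T : Subgroup S) = v 2 S := by
      show (Nat.card T).factorization 2 = _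
      rw [hTc, Nat.Prime.factorization_pow Nat.prime_two, Finsupp.single_eq_same]
    have h5 : v 2 (centralizer ({z} : Set S)) ≤ v 2 S :=
      (Nat.factorization_le_iff_dvd Nat.card_pos.ne' Nat.card_pos.ne').2 (card_subgroup_dvd_card _) 2
    omega
  obtain ⟨z, hz1, hzo, hzT⟩ : ∃ z ∈ T1, orderOf z = 2 ∧ ∀ y ∈ (T : Subgroup S), z * y = y * z := by
    obtain ⟨z0, hz0, hz0o, hz0T⟩ := exists_central hTp hT1'
    by_cases h3 : z0 ∈ T1
    · exact ⟨z0, h3, hz0o, hz0T⟩
    · obtain ⟨z1, hz1, hz1o, hz1T⟩ := exists_central hT1p hT11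
      refine ⟨z1, hz1, hz1o, fun y hy => ?_⟩
      by_cases h4 : y ∈ T1
      · exact hz1T y h4
      · have h5 := hz1T _ (hi y hy z0 hz0 h4 h3)
        have h6 := hz0T z1 (hT hz1)
        have h7 : z1 * y = z1 * (y * z0⁻¹) * z0 := by group
        rw [h7, h5, mul_assoc (y * z0⁻¹) z1 z0, ← h6]
        group
  exact (hC z hzo (hfull z hzT)).false_of hbo hb1 T hzT T1 hz1 hbT hi

/-- **`NoCent`** : `|Out S| = 1` and one involution of the centre of a Sylow `2`-subgroup satisfies `Con`. -/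
theorem noCent_of_con_one (hout : out S = 1) {z : S} (hzo : orderOf z = 2)
    (hz2 : v 2 (centralizer ({z} : Set S)) = v 2 S) (hz : Con z) : NoCent S := by
  intro b hbp hb2
  have h2F : Fact (Nat.Prime 2) := ⟨Nat.prime_two⟩
  by_contra hcon
  push Not at hcon
  rw [hout, Nat.factorization_one, Finsupp.zero_apply, add_zero] at hcon
  have hbo : Odd (orderOf b) := hbp.odd_of_ne_two hb2
  have hb1 : b ≠ 1 := by rintro rfl; rw [orderOf_one] at hbp; exact Nat.not_prime_one hbp
  obtain ⟨T, T1, hT, hT1c, hT1p, hbT, hi⟩ := exists_sylow_pair (b := b) (by omega)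
  -- `T₁ = T`
  have hTc : Nat.card T = 2 ^ v 2 S := T.card_eq_multiplicity
  have hTT : T1 = (T : Subgroup S) := by
    apply Subgroup.eq_of_le_of_card_ge hT
    rw [show Nat.card (T : Subgroup S) = 2 ^ v 2 S from hTc, hT1c]
    exact Nat.pow_le_pow_right (by norm_num) hcon
  -- a conjugate of `z` in the centre of `T`
  obtain ⟨P⟩ : Nonempty (Sylow 2 ↥(centralizer ({z} : Set S))) := inferInstance
  have hPp : IsPGroup 2 ↥((P : Subgroup ↥(centralizer ({z} : Set S))).map (centralizer ({z} : Set S)).subtype) :=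
    P.isPGroup'.map _
  obtain ⟨T', hT'⟩ := hPp.exists_le_sylow
  have hT'e : (P : Subgroup ↥(centralizer ({z} : Set S))).map (centralizer ({z} : Set S)).subtype =
      (T' : Subgroup S) := by
    apply Subgroup.eq_of_le_of_card_ge hT'
    rw [show Nat.card (T' : Subgroup S) = 2 ^ v 2 S from T'.card_eq_multiplicity, ← hz2]
    exact le_of_eq (P.card_eq_multiplicity.symm.trans
      (Nat.card_congr ((P : Subgroup ↥(centralizer ({z} : Set S))).equivMapOfInjective _
      (centralizer ({z} : Set S)).subtype_injective).toEquiv))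
  have hzT' : ∀ y ∈ (T' : Subgroup S), z * y = y * z := by
    rw [← hT'e]
    rintro _ ⟨y, -, rfl⟩
    exact (mem_centralizer_singleton_iff.1 y.2).symm
  obtain ⟨g, hg⟩ := MulAction.exists_smul_eq S T T'
  -- conjugate `b`
  have hmem : ∀ y ∈ (T' : Subgroup S), g⁻¹ * y * g ∈ (T : Subgroup S) := by
    intro y hy
    rw [← hg, Sylow.smul_def] at hy
    obtain ⟨w, hw, hwy⟩ := hy
    have h3 : g⁻¹ * y * g = w := by
      rw [← hwy]
      show g⁻¹ * (g * w * g⁻¹) * g = w
      group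
    rw [h3]
    exact hw
  have hb' : ∀ y ∈ (T' : Subgroup S), (g * b * g⁻¹) * y = y * (g * b * g⁻¹) := by
    intro y hy
    have h3 := hbT _ (hTT ▸ hmem y hy)
    calc g * b * g⁻¹ * y = g * (b * (g⁻¹ * y * g)) * g⁻¹ := by group
      _ = y * (g * b * g⁻¹) := by rw [h3]; group
  have hz1 : z ∈ (T' : Subgroup S) := by
    have h3 : IsPGroup 2 ↥((T' : Subgroup S) ⊔ zpowers z) := by
      refine T'.isPGroup'.to_sup_of_normal_right' ?_ ?_
      · apply IsPGroup.of_card (n := 1)
        rw [Nat.card_zpowers, hzo, pow_one]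
      · intro y hy
        apply centralizer_le_normalizer
        rw [mem_centralizer_iff]
        rintro _ ⟨k, rfl⟩
        exact ((Commute.zpow_left (show Commute z y from hzT' y hy) k)).eq
    have h4 : (T' : Subgroup S) ⊔ zpowers z = T' := T'.is_maximal' h3 le_sup_left
    rw [← h4]
    exact mem_sup_right (mem_zpowers z)
  refine hz.false_of (b := g * b * g⁻¹) ?_ ?_ T' hzT' (T' : Subgroup S) hz1 hb' fun y hy w _ hy1 _ => absurd hy hy1
  · rw [show orderOf (g * b * g⁻¹) = orderOf b from MulEquiv.orderOf_eq (MulAut.conj g) b]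
    exact hbo
  · intro h3
    exact hb1 (conj_eq_one_iff.1 h3)

end Cfsg.Agent.H160.PD
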